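import Groth.Agent.L06.LineForm.Basic
import Mathlib.AlgebraicGeometry.Morphisms.Separated
import Mathlib.RingTheory.Localization.FractionRing
import Mathlib.RingTheory.Ideal.Quotient.Operations

/-!
An automorphism of the projective line over a field fixing a subscheme of length three at a
rational point is the identity.
-/

set_option autoImplicit false
set_option linter.style.haveILetI false
set_option maxSynthPendingDepth 3
set_option backward.isDefEq.respectTransparency false
set_option backward.isDefEq.respectTransparency.types false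

universe u

open CategoryTheory CategoryTheory.Limits AlgebraicGeometry MvPolynomial HomogeneousLocalization

noncomputable section

namespace Groth.L06.LineForm

open Groth.L18.PS (tuplePt)
open Groth.L18.ProjPt (awayHom pt)

variable {K : Type u} [Field K] (i j : Fin 2) (hij : i ≠ j) (c : K)

/-- The coordinates `i ↦ t`, `j ↦ 1 + c t`, of the chart `D₊(form)`. -/
def crdV {F : Type u} [CommRing F] (σ : K →+* F) (t : F) : Fin 2 → F :=
  fun m => if m = i then t else 1 + σ c * t

include hij in
theorem eval_crdV {F : Type u} [CommRing F] (σ : K →+* F) (t : F) :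
    eval₂Hom σ (crdV i c σ t) (form i j c) = 1 := by
  rw [eval_form]; simp [crdV, hij.symm]

/-- The point of `D₊(form)` with parameter `t`. -/
def linePt {F : CommRingCat.{u}} (σ : K →+* F) (t : F) : Spec F ⟶ CohB1.ProjSpace 1 K :=
  pt (CohB1.polyGrading 1 K) (eval₂Hom σ (crdV i c σ t)) (form_mem i j c) one_pos
    (by rw [eval_crdV i j hij c]; exact isUnit_one)

/-- The chart `Spec K[T] → ℙ¹`. -/
def lineChart : Spec (CommRingCat.of (Polynomial K)) ⟶ CohB1.ProjSpace 1 K :=
  linePt i j hij c (F := CommRingCat.of (Polynomial K)) Polynomial.C Polynomial.X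

theorem SpecMap_lineChart {F : CommRingCat.{u}} (e : Polynomial K →+* F) :
    Spec.map (CommRingCat.ofHom e) ≫ lineChart i j hij c = linePt i j hij c (e.comp Polynomial.C) (e Polynomial.X) := by
  rw [lineChart, linePt, Groth.L18.ProjPt.SpecMap_pt]
  unfold linePt
  congr 1
  refine MvPolynomial.ringHom_ext (fun a => by simp) (fun m => ?_)
  simp only [CommRingCat.hom_ofHom, RingHom.comp_apply, eval₂Hom_X']
  by_cases hm : m = i <;> simp [crdV, hm]

theorem linePt_toSpec {F : CommRingCat.{u}} (σ : K →+* F) (t : F) :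
    linePt i j hij c σ t ≫ CohB1.ProjSpace.toSpec 1 K = Spec.map (CommRingCat.ofHom σ) := by
  refine (Groth.L18.ProjPt.pt_toBase (R := K) (C := F) _ (form_mem i j c) _).trans ?_
  congr 2
  exact RingHom.ext fun a => by simp [MvPolynomial.algebraMap_eq]

include hij in
theorem isOpenImmersion_lineChart :
    IsOpenImmersion (lineChart i j hij c) ∧ Set.range (lineChart i j hij c) =
      @SetLike.coe (CohB1.ProjSpace 1 K).Opens ↥(CohB1.ProjSpace 1 K) _
        (Proj.basicOpen (CohB1.polyGrading 1 K) (form i j c)) := by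
  obtain ⟨r, -, hr⟩ := exists_ringEquiv i j hij c
  have hfun : crdV i c (Polynomial.C : K →+* Polynomial K) Polynomial.X = coords i c := by
    funext m; rfl
  have h : lineChart i j hij c = Spec.map r.toCommRingCatIso.hom ≫
      Proj.awayι (CohB1.polyGrading 1 K) (form i j c) (form_mem i j c) one_pos := by
    rw [show r.toCommRingCatIso.hom = CommRingCat.ofHom r.toRingHom from rfl, hr]
    unfold lineChart linePt pt
    simp only [hfun]
  refine ⟨?_, ?_⟩
  · haveI : IsOpenImmersion (Proj.awayι (CohB1.polyGrading 1 K) (form i j c) (form_mem i j c) one_pos) := inferInstance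
    rw [h]
    exact MorphismProperty.comp_mem _ _ _ inferInstance this
  rw [h, ← Proj.opensRange_awayι (CohB1.polyGrading 1 K) (form i j c) (form_mem i j c) one_pos]
  rw [Scheme.Hom.coe_opensRange, Scheme.Hom.comp_base, TopCat.coe_comp]
  exact (ConcreteCategory.bijective_of_isIso (Spec.map r.toCommRingCatIso.hom).base).2.range_comp
    ⇑(Proj.awayι (CohB1.polyGrading 1 K) (form i j c) (form_mem i j c) one_pos).base

/-- A point of the chart with non-zero parameter, in the coordinates at `i`. -/
theorem linePt_eq {F : CommRingCat.{u}} (σ : K →+* F) (t s : F) (a : Fin 2 → F)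
    (ha : ∀ m, a m = s * crdV i c σ t m) (hu : IsUnit (a i)) :
    linePt i j hij c σ t = tuplePt (B := F) σ a i hu := by
  obtain rfl : a = fun m => s * crdV i c σ t m := funext ha
  exact Groth.L06.ProjEmbed.pt_scale σ (crdV i c σ t) s (form_mem i j c) (Groth.L18.PS.X_mem 1 i)
    (by rw [eval_crdV i j hij c]; exact isUnit_one) (by rw [eval₂Hom_X']; exact hu)

include hij in
/-- An automorphism fixing the rational point is affine on the complement. -/
theorem exists_affine (ψ : CohB1.ProjSpace 1 K ≅ CohB1.ProjSpace 1 K)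
    (hψ : ψ.hom ≫ CohB1.ProjSpace.toSpec 1 K = CohB1.ProjSpace.toSpec 1 K)
    (hfix : ratPt i c ≫ ψ.hom = ratPt i c) :
    ∃ a b : K, a ≠ 0 ∧ lineChart i j hij c ≫ ψ.hom =
      Spec.map (CommRingCat.ofHom (Polynomial.eval₂RingHom Polynomial.C (Polynomial.C a * Polynomial.X + Polynomial.C b))) ≫
        lineChart i j hij c := by
  obtain ⟨hoi, hor⟩ := isOpenImmersion_lineChart i j hij c
  haveI := hoi
  let Q := ratPt i c (IsLocalRing.closedPoint K)
  have hD := basicOpen_form_eq i j hij c
  have hrange : Set.range (lineChart i j hij c) = {Q}ᶜ := hor.trans hD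
  have hinvfix : ratPt i c ≫ ψ.inv = ratPt i c := by
    conv_lhs => rw [← hfix]
    rw [Category.assoc, ψ.hom_inv_id, Category.comp_id]
  have key : ∀ χ : CohB1.ProjSpace 1 K ≅ CohB1.ProjSpace 1 K,
      χ.hom ≫ CohB1.ProjSpace.toSpec 1 K = CohB1.ProjSpace.toSpec 1 K → ratPt i c ≫ χ.hom = ratPt i c →
      ∃ τ : Polynomial K →+* Polynomial K, τ.comp Polynomial.C = Polynomial.C ∧
        lineChart i j hij c ≫ χ.hom = Spec.map (CommRingCat.ofHom τ) ≫ lineChart i j hij c := by
    intro χ hχ hχfix
    have hr : Set.range (lineChart i j hij c ≫ χ.hom) ⊆ Set.range (lineChart i j hij c) := by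
      rintro _ ⟨y, rfl⟩
      rw [hrange]
      intro hy
      have hyQ : lineChart i j hij c y ∈ ({Q}ᶜ : Set _) := hrange ▸ Set.mem_range_self y
      refine hyQ ?_
      have h1 : χ.hom Q = Q := congrArg (fun f => f (IsLocalRing.closedPoint K)) hχfix
      have h2 : χ.hom (lineChart i j hij c y) = χ.hom Q := (Set.mem_singleton_iff.1 hy).trans h1.symm
      exact (ConcreteCategory.bijective_of_isIso χ.hom.base).1 h2
    let l := IsOpenImmersion.lift (lineChart i j hij c) (lineChart i j hij c ≫ χ.hom) hr
    have hl : l ≫ lineChart i j hij c = lineChart i j hij c ≫ χ.hom := IsOpenImmersion.lift_fac _ _ hr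
    refine ⟨(Spec.preimage l).hom, ?_, ?_⟩
    · have h1 : Spec.map (CommRingCat.ofHom (Polynomial.C : K →+* Polynomial K) ≫ Spec.preimage l) =
          Spec.map (CommRingCat.ofHom (Polynomial.C : K →+* Polynomial K)) := by
        rw [Spec.map_comp, Spec.map_preimage,
          ← linePt_toSpec i j hij c (F := CommRingCat.of (Polynomial K)) Polynomial.C Polynomial.X]
        show l ≫ lineChart i j hij c ≫ CohB1.ProjSpace.toSpec 1 K = lineChart i j hij c ≫ CohB1.ProjSpace.toSpec 1 K
        rw [← Category.assoc, hl, Category.assoc, hχ]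
      exact congrArg CommRingCat.Hom.hom (Spec.map_injective h1)
    · rw [show CommRingCat.ofHom (Spec.preimage l).hom = Spec.preimage l from rfl, Spec.map_preimage, hl]
  obtain ⟨τ, hτC, hτ⟩ := key ψ hψ hfix
  obtain ⟨ρ, hρC, hρ⟩ := key ψ.symm ((Iso.inv_comp_eq ψ).2 hψ.symm) hinvfix
  have hτρ : τ.comp ρ = RingHom.id _ := by
    have h1 : Spec.map (CommRingCat.ofHom (τ.comp ρ)) ≫ lineChart i j hij c = 𝟙 _ ≫ lineChart i j hij c := by
      rw [CommRingCat.ofHom_comp, Spec.map_comp, Category.assoc, ← hρ, ← Category.assoc, ← hτ,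
        Category.assoc, Iso.symm_hom, ψ.hom_inv_id, Category.comp_id, Category.id_comp]
    rw [cancel_mono, ← Spec.map_id] at h1
    exact congrArg CommRingCat.Hom.hom (Spec.map_injective h1)
  have hτe : ∀ p, τ p = p.comp (τ Polynomial.X) := fun p => by
    refine RingHom.congr_fun (g := Polynomial.eval₂RingHom Polynomial.C (τ Polynomial.X)) ?_ p
    exact Polynomial.ringHom_ext (fun a => by rw [Polynomial.coe_eval₂RingHom, Polynomial.eval₂_C]; exact RingHom.congr_fun hτC a)
      (by simp)
  have hd : (τ Polynomial.X).natDegree = 1 := by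
    have h1 := congrArg Polynomial.natDegree (RingHom.congr_fun hτρ Polynomial.X)
    rw [RingHom.comp_apply, hτe (ρ Polynomial.X), Polynomial.natDegree_comp, RingHom.id_apply, Polynomial.natDegree_X] at h1
    exact Nat.eq_one_of_mul_eq_one_left h1
  obtain ⟨a, ha, b, hab⟩ := Polynomial.natDegree_eq_one.1 hd
  refine ⟨a, b, ha, ?_⟩
  rw [hτ, hab]
  congr 3
  exact RingHom.ext fun p => hτe p

/-- Evaluation of the truncated parameter. -/
abbrev trunc (K : Type u) [Field K] : Type u := Polynomial K ⧸ Ideal.span {(Polynomial.X : Polynomial K) ^ 3}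

/-- The second order neighbourhood of the rational point. -/
def thickPt : Spec (CommRingCat.of (trunc K)) ⟶ CohB1.ProjSpace 1 K :=
  tuplePt (B := CommRingCat.of (trunc K)) (algebraMap K (trunc K))
    (ptv i (algebraMap K (trunc K) c + Ideal.Quotient.mk _ Polynomial.X)) i (isUnit_ptv i _)

theorem thickPt_red :
    ∃ e : trunc K →+* K, Spec.map (CommRingCat.ofHom e) ≫ thickPt i c = ratPt i c := by
  let e : trunc K →+* K := Ideal.Quotient.lift _ (Polynomial.evalRingHom 0) (fun p hp => by
    obtain ⟨q, rfl⟩ := Ideal.mem_span_singleton.1 hp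
    simp)
  refine ⟨e, ?_⟩
  rw [thickPt, ratPt, Groth.L18.PS.SpecMap_tuplePt]
  have h1 : e.comp (algebraMap K (trunc K)) = RingHom.id K := RingHom.ext fun a => by
    show e (Ideal.Quotient.mk _ (Polynomial.C a)) = a
    simp [e]
  simp only [CommRingCat.hom_ofHom, h1]
  refine Groth.L18.PS.tuplePt_congr _ (fun m => ?_) _ _ _ _
  by_cases hm : m = i
  · simp [ptv, hm]
  · have h2 : e (algebraMap K (trunc K) c) = c := RingHom.congr_fun h1 c
    simp [ptv, hm, h2, e]

include hij in
/-- An automorphism fixing the second order neighbourhood of a rational point is the identity. -/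
theorem eq_id_of_fix (ψ : CohB1.ProjSpace 1 K ≅ CohB1.ProjSpace 1 K)
    (hψ : ψ.hom ≫ CohB1.ProjSpace.toSpec 1 K = CohB1.ProjSpace.toSpec 1 K)
    (hthick : thickPt i c ≫ ψ.hom = thickPt i c) : ψ.hom = 𝟙 _ := by
  obtain ⟨e₀, he₀⟩ := thickPt_red i c
  obtain ⟨a, b, ha, hab⟩ := exists_affine i j hij c ψ hψ (by rw [← he₀, Category.assoc, hthick])
  set τ := Polynomial.eval₂RingHom Polynomial.C (Polynomial.C a * Polynomial.X + Polynomial.C b) with hτ
  haveI := (isOpenImmersion_lineChart i j hij c).1
  haveI : IsProper (CohB1.ProjSpace.toSpec 1 K) := inferInstance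
  haveI : IsDominant (lineChart i j hij c) := by
    refine ⟨IsOpen.dense (lineChart i j hij c).opensRange.2 ?_⟩
    exact ⟨lineChart i j hij c (⊥ : PrimeSpectrum (Polynomial K)), Set.mem_range_self _⟩
  let w : Polynomial K := Polynomial.C a + Polynomial.C b * Polynomial.X
  let R := Localization.Away w
  let F := FractionRing (Polynomial K)
  let σR : K →+* R := (algebraMap (Polynomial K) R).comp Polynomial.C
  let σF : K →+* F := (algebraMap (Polynomial K) F).comp Polynomial.C
  let uR : R := algebraMap (Polynomial K) R Polynomial.X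
  let uF : F := algebraMap (Polynomial K) F Polynomial.X
  have huF : uF ≠ 0 := (map_ne_zero_iff _ (IsFractionRing.injective (Polynomial K) F)).2 Polynomial.X_ne_zero
  have hw : w ≠ 0 := fun h => ha (by simpa [w] using congrArg (Polynomial.coeff · 0) h)
  let ι : R →+* F := IsLocalization.Away.lift (S := R) w
    (g := algebraMap (Polynomial K) F) (isUnit_iff_ne_zero.2 ((map_ne_zero_iff _ (IsFractionRing.injective (Polynomial K) F)).2 hw))
  have hι : ∀ p, ι (algebraMap (Polynomial K) R p) = algebraMap (Polynomial K) F p := IsLocalization.Away.lift_eq w _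
  have hιinj : Function.Injective ι := by
    refine (IsLocalization.lift_injective_iff _).2 fun x y => ?_
    exact ⟨fun h => by rw [IsLocalization.injective R (powers_le_nonZeroDivisors_of_noZeroDivisors hw) h],
      fun h => by rw [IsFractionRing.injective (Polynomial K) F h]⟩
  let newV : {S : Type u} → [CommRing S] → (K →+* S) → S → Fin 2 → S := fun σ u m =>
    if m = i then σ a + σ b * u else u + σ c * (σ a + σ b * u)
  have hwR : σR a + σR b * uR = algebraMap (Polynomial K) R w := by simp [σR, uR, w]
  have hnR : IsUnit (newV σR uR i) := by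
    simp only [newV, if_pos, hwR]
    exact IsLocalization.Away.algebraMap_isUnit w
  have hR : tuplePt (B := CommRingCat.of R) σR (ptv i (σR c + uR)) i (isUnit_ptv i _) ≫ ψ.hom =
      tuplePt (B := CommRingCat.of R) σR (newV σR uR) i hnR := by
    haveI : IsDominant (Spec.map (CommRingCat.ofHom ι)) := by
      refine ⟨?_⟩
      exact (PrimeSpectrum.denseRange_comap_iff_ker_le_nilRadical (f := ι)).2 (by
        rw [(RingHom.injective_iff_ker_eq_bot ι).1 hιinj]; exact bot_le)
    haveI : _root_.IsReduced R := (isReduced_of_injective ι hιinj)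
    haveI : IsReduced (Spec (CommRingCat.of R)) := inferInstance
    refine ext_of_isDominant_of_isSeparated (CohB1.ProjSpace.toSpec 1 K)
      (ι := Spec.map (CommRingCat.ofHom ι)) ?_ ?_
    · rw [Category.assoc, hψ, Groth.L18.PS.tuplePt_toSpec, Groth.L18.PS.tuplePt_toSpec]
    rw [← Category.assoc, Groth.L18.PS.SpecMap_tuplePt, Groth.L18.PS.SpecMap_tuplePt]
    have hσ : ι.comp σR = σF := RingHom.ext fun x => by simp [σR, σF, hι]
    simp only [CommRingCat.hom_ofHom, hσ]
    have hσ' : ∀ x, ι (σR x) = σF x := RingHom.congr_fun hσ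
    have huι : ι uR = uF := hι _
    let e : (Polynomial K) →+* F := Polynomial.eval₂RingHom σF uF⁻¹
    have he : e.comp Polynomial.C = σF := RingHom.ext fun x => by simp [e]
    have he' : (e.comp τ).comp Polynomial.C = σF := RingHom.ext fun x => by simp [e, hτ]
    have hX' : (e.comp τ) Polynomial.X = σF a * uF⁻¹ + σF b := by simp [e, hτ]
    have h1 : linePt i j hij c (F := CommRingCat.of F) σF uF⁻¹ ≫ ψ.hom =
        linePt i j hij c (F := CommRingCat.of F) σF (σF a * uF⁻¹ + σF b) := by
      have l1 := SpecMap_lineChart i j hij c (F := CommRingCat.of F) e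
      have l2 := SpecMap_lineChart i j hij c (F := CommRingCat.of F) (e.comp τ)
      rw [he] at l1
      rw [he', hX'] at l2
      rw [show e Polynomial.X = uF⁻¹ by simp [e]] at l1
      rw [← l1, ← l2, Category.assoc, hab, CommRingCat.ofHom_comp, Spec.map_comp, Category.assoc]
    have hinv : uF * uF⁻¹ = 1 := mul_inv_cancel₀ huF
    have hold : ∀ m, ι (ptv i (σR c + uR) m) = uF * crdV i c σF uF⁻¹ m := fun m => by
      by_cases hm : m = i
      · simp only [ptv, crdV, if_pos hm, map_one, hinv]
      · simp only [ptv, crdV, if_neg hm, map_add, hσ', huι]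
        linear_combination (-σF c) * hinv
    have hnew : ∀ m, ι (newV σR uR m) = uF * crdV i c σF (σF a * uF⁻¹ + σF b) m := fun m => by
      by_cases hm : m = i
      · simp only [newV, crdV, if_pos hm, map_add, map_mul, hσ', huι]
        linear_combination (-σF a) * hinv
      · simp only [newV, crdV, if_neg hm, map_add, map_mul, hσ', huι]
        linear_combination (-(σF c * σF a)) * hinv
    rw [← linePt_eq i j hij c (F := CommRingCat.of F) σF uF⁻¹ uF _ hold,
      ← linePt_eq i j hij c (F := CommRingCat.of F) σF (σF a * uF⁻¹ + σF b) uF _ hnew, h1]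
  let A := trunc K
  let π : (Polynomial K) →+* A := Ideal.Quotient.mk _
  have hπw : IsUnit (π w) := by
    have h1 : IsNilpotent (π (Polynomial.C b * Polynomial.X)) := ⟨3, by
      rw [← map_pow, Ideal.Quotient.eq_zero_iff_mem, mul_pow]
      exact Ideal.mul_mem_left _ _ (Ideal.mem_span_singleton_self _)⟩
    rw [map_add]
    exact h1.isUnit_add_left_of_commute ((Polynomial.isUnit_C.2 ha.isUnit).map π) (Commute.all _ _)
  let μ : R →+* A := IsLocalization.Away.lift (S := R) w hπw
  have hμ : ∀ p, μ (algebraMap (Polynomial K) R p) = π p := IsLocalization.Away.lift_eq w _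
  have hμσ : ∀ x, μ (σR x) = algebraMap K A x := fun x => (hμ _).trans rfl
  have hμσ' : μ.comp σR = algebraMap K A := RingHom.ext hμσ
  have hμu : μ uR = π Polynomial.X := hμ _
  have hA := congrArg (Spec.map (CommRingCat.ofHom μ) ≫ ·) hR
  simp only [← Category.assoc, Groth.L18.PS.SpecMap_tuplePt, CommRingCat.hom_ofHom, hμσ'] at hA
  have hold : ∀ m, μ (ptv i (σR c + uR) m) = ptv i (algebraMap K A c + π Polynomial.X) m := fun m => by
    by_cases hm : m = i <;> simp [ptv, hm, hμσ, hμu]
  rw [Groth.L18.PS.tuplePt_congr (B := CommRingCat.of A) _ hold i i _ (isUnit_ptv i _)] at hA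
  change thickPt i c ≫ ψ.hom = _ at hA
  rw [hthick] at hA
  obtain ⟨s, hs⟩ := Groth.L18.PS.exists_smul_of_tuplePt_eq (B := CommRingCat.of A) _ _ i i _ _ hA
  have h1 := hs i
  have h2 := hs j
  simp only [newV, ptv, if_pos, if_neg hij.symm, map_add, map_mul, hμσ, hμu, mul_one] at h1 h2
  have h3 : π (Polynomial.C (a - 1) * Polynomial.X + Polynomial.C b * Polynomial.X ^ 2) = 0 := by
    rw [map_add, map_mul, map_mul, map_pow, map_sub, map_one, map_sub, map_one,
      show π (Polynomial.C a) = algebraMap K A a from rfl, show π (Polynomial.C b) = algebraMap K A b from rfl]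
    linear_combination (algebraMap K A c + π Polynomial.X) * h1 - h2
  rw [Ideal.Quotient.eq_zero_iff_mem, Ideal.mem_span_singleton, Polynomial.X_pow_dvd_iff] at h3
  have ha1 : a = 1 := sub_eq_zero.1 (by simpa [Polynomial.coeff_X_pow] using h3 1 (by norm_num))
  have hb0 : b = 0 := by simpa [Polynomial.coeff_X_pow, Polynomial.coeff_X, Polynomial.coeff_one, ha1] using h3 2 (by norm_num)
  refine ext_of_isDominant_of_isSeparated (CohB1.ProjSpace.toSpec 1 K) (ι := lineChart i j hij c)
    (by rw [hψ, Category.id_comp]) ?_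
  rw [hab, Category.comp_id, hτ, ha1, hb0]
  have hid : Polynomial.eval₂RingHom Polynomial.C (Polynomial.C (1 : K) * Polynomial.X + Polynomial.C 0) = RingHom.id _ :=
    Polynomial.ringHom_ext (fun x => by simp) (by simp)
  rw [hid]
  exact (congrArg (· ≫ lineChart i j hij c) (Spec.map_id _)).trans (Category.id_comp _)

end Groth.L06.LineForm
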