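import Groth.Agent.L06.ProjEmbed.Chart
import Groth.Agent.L16.ProjSpace.Basic
import Mathlib.AlgebraicGeometry.AlgClosed.Basic

/-!
Over an algebraically closed field, the complement of a closed point of the projective line is the
affine line.
-/

set_option autoImplicit false
set_option linter.style.haveILetI false
set_option maxSynthPendingDepth 3
set_option backward.isDefEq.respectTransparency false
set_option backward.isDefEq.respectTransparency.types false

universe u

open CategoryTheory CategoryTheory.Limits AlgebraicGeometry MvPolynomial HomogeneousLocalization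

noncomputable section

namespace Groth.L06.LineForm

open Groth.L06.ProjEmbed (crd scal mk_eq_eval eval_self eq_awayHom awayHom_scal awayHom_crd)
open Groth.L18.ProjPt (awayHom)

variable {K : Type u} [Field K]

/-- The linear form vanishing at the point with coordinates `i ↦ 1`, `j ↦ c`. -/
def form (i j : Fin 2) (c : K) : MvPolynomial (Fin 2) K := X j - C c * X i

theorem form_mem (i j : Fin 2) (c : K) : form i j c ∈ CohB1.polyGrading 1 K 1 :=
  (mem_homogeneousSubmodule 1 _).2 (IsHomogeneous.sub (isHomogeneous_X K j)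
    (by simpa using (isHomogeneous_C (Fin 2) c).mul (isHomogeneous_X K i)))

theorem eval_form {F : Type u} [CommRing F] (σ : K →+* F) (v : Fin 2 → F) (i j : Fin 2) (c : K) :
    eval₂Hom σ v (form i j c) = v j - σ c * v i := by
  simp [form]

variable (i j : Fin 2) (hij : i ≠ j) (c : K)

/-- Coordinates of the chart `D₊(form)` in the parameter `T`. -/
def coords : Fin 2 → Polynomial K :=
  fun m => if m = i then Polynomial.X else 1 + Polynomial.C c * Polynomial.X

include hij in
theorem eval_coords : eval₂Hom Polynomial.C (coords i c) (form i j c) = 1 := by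
  rw [eval_form]; simp [coords, hij.symm]

include hij in
theorem isUnit_eval_coords : IsUnit (eval₂Hom Polynomial.C (coords i c) (form i j c)) := by
  rw [eval_coords i j hij c]; exact isUnit_one

include hij in
/-- `D₊(form) = Spec K[T]`, on rings. -/
theorem exists_ringEquiv :
    ∃ e : Away (CohB1.polyGrading 1 K) (form i j c) ≃+* Polynomial K,
      e.toRingHom.comp (scal (n := 1) (form i j c)) = Polynomial.C ∧
      e.toRingHom = awayHom (CohB1.polyGrading 1 K) (eval₂Hom Polynomial.C (coords i c)) (form i j c)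
        (isUnit_eval_coords i j hij c) := by
  set h := form i j c with hh'
  have hh : h ∈ CohB1.polyGrading 1 K 1 := form_mem i j c
  have hu : IsUnit (eval₂Hom Polynomial.C (coords i c) h) := by rw [eval_coords i j hij c]; exact isUnit_one
  let θ := awayHom (CohB1.polyGrading 1 K) (eval₂Hom Polynomial.C (coords i c)) h hu
  let ψ : Polynomial K →+* Away (CohB1.polyGrading 1 K) h := Polynomial.eval₂RingHom (scal (n := 1) h) (crd (n := 1) hh i)
  have hθs : ∀ a, θ (scal (n := 1) h a) = Polynomial.C a := fun a => awayHom_scal Polynomial.C (coords i c) hu a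
  have hθc : ∀ m, θ (crd (n := 1) hh m) = coords i c m := fun m => by
    have := awayHom_crd Polynomial.C (coords i c) hh hu m
    rwa [eval_coords i j hij c, mul_one] at this
  have h1 : θ.comp ψ = RingHom.id _ := Polynomial.ringHom_ext (fun a => by simp [ψ, hθs])
    (by simp [ψ, hθc, coords])
  have hrel : crd (n := 1) hh j - scal (n := 1) h c * crd (n := 1) hh i = 1 := by
    have := eval_self hh (RingHom.id _)
    rw [RingHom.id_comp] at this
    simpa [h, eval_form] using this
  have hψc : ∀ m, ψ (θ (crd (n := 1) hh m)) = crd (n := 1) hh m := fun m => by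
    rw [hθc]
    by_cases hm : m = i
    · subst hm; simp [ψ, coords]
    · have hmj : m = j := by omega
      subst hmj
      simp only [coords, if_neg hm, ψ, Polynomial.coe_eval₂RingHom, Polynomial.eval₂_add, Polynomial.eval₂_one,
        Polynomial.eval₂_mul, Polynomial.eval₂_C, Polynomial.eval₂_X]
      linear_combination -hrel
  have h2 : ψ.comp θ = RingHom.id _ := by
    refine RingHom.ext fun z => ?_
    obtain ⟨e, F, hF, rfl⟩ := Away.mk_surjective _ hh z
    rw [mk_eq_eval hh e F hF]
    revert hF
    intro _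
    refine RingHom.congr_fun (f := (ψ.comp θ).comp (eval₂Hom (scal (n := 1) h) (crd (n := 1) hh)))
      (g := eval₂Hom (scal (n := 1) h) (crd (n := 1) hh)) ?_ F
    refine MvPolynomial.ringHom_ext (fun a => ?_) (fun m => ?_)
    · simp only [RingHom.comp_apply, eval₂Hom_C, hθs]
      simp [ψ]
    · simp only [RingHom.comp_apply, eval₂Hom_X']
      exact hψc m
  exact ⟨RingEquiv.ofRingHom θ ψ h1 h2, RingHom.ext hθs, rfl⟩

include hij in
/-- `D₊(form) ≅ Spec K[T]` over `K`. -/
theorem exists_iso :
    ∃ e : (Proj.basicOpen (CohB1.polyGrading 1 K) (form i j c) : (CohB1.ProjSpace 1 K).Opens).toScheme ≅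
        Spec (CommRingCat.of (Polynomial K)),
      e.hom ≫ Spec.map (CommRingCat.ofHom (algebraMap K (Polynomial K))) =
        Scheme.Opens.ι (Proj.basicOpen (CohB1.polyGrading 1 K) (form i j c) : (CohB1.ProjSpace 1 K).Opens) ≫
          CohB1.ProjSpace.toSpec 1 K := by
  obtain ⟨r, hr, -⟩ := exists_ringEquiv i j hij c
  let a : Spec (CommRingCat.of (Away (CohB1.polyGrading 1 K) (form i j c))) ⟶ CohB1.ProjSpace 1 K :=
    Proj.awayι _ (form i j c) (form_mem i j c) one_pos
  have ha : a ≫ CohB1.ProjSpace.toSpec 1 K = Spec.map (CommRingCat.ofHom (scal (n := 1) (form i j c))) :=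
    (Groth.L22.LinProj.awayι_toSpec (m := 1) (form_mem i j c) one_pos).trans rfl
  haveI : IsOpenImmersion a := inferInstanceAs (IsOpenImmersion (Proj.awayι _ _ _ _))
  let W : (CohB1.ProjSpace 1 K).Opens := Proj.basicOpen (CohB1.polyGrading 1 K) (form i j c)
  have hW : Set.range W.ι = Set.range a := by
    rw [Scheme.Opens.range_ι]
    exact congrArg SetLike.coe (Proj.opensRange_awayι _ _ (form_mem i j c) one_pos).symm
  let e₀ := IsOpenImmersion.isoOfRangeEq W.ι a hW
  refine ⟨e₀ ≪≫ Scheme.Spec.mapIso r.symm.toCommRingCatIso.op, ?_⟩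
  have h0 : e₀.hom ≫ a = W.ι := IsOpenImmersion.isoOfRangeEq_hom_fac _ _ _
  have hm : CommRingCat.ofHom (algebraMap K (Polynomial K)) ≫ r.symm.toCommRingCatIso.hom =
      CommRingCat.ofHom (scal (n := 1) (form i j c)) := by
    refine CommRingCat.hom_ext (RingHom.ext fun x => ?_)
    show r.symm (algebraMap K (Polynomial K) x) = _
    rw [RingEquiv.symm_apply_eq]
    exact (RingHom.congr_fun hr x).symm
  simp only [Iso.trans_hom, Functor.mapIso_hom, Iso.op_hom, Scheme.Spec_map, Quiver.Hom.unop_op, Category.assoc]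
  rw [← Spec.map_comp, hm, ← ha, ← Category.assoc, h0]

/-- Coordinates `i ↦ 1`, `j ↦ s`. -/
def ptv {F : Type u} [CommRing F] (i : Fin 2) (s : F) : Fin 2 → F := fun m => if m = i then 1 else s

theorem isUnit_ptv {F : Type u} [CommRing F] (i : Fin 2) (s : F) : IsUnit (ptv i s i) := by
  simp [ptv]

/-- The `K`-point `i ↦ 1`, `j ↦ c`. -/
def ratPt : Spec (CommRingCat.of K) ⟶ CohB1.ProjSpace 1 K :=
  Groth.L18.PS.tuplePt (B := CommRingCat.of K) (RingHom.id K) (ptv i c) i (isUnit_ptv i c)

theorem ratPt_toSpec : ratPt i c ≫ CohB1.ProjSpace.toSpec 1 K = 𝟙 _ := by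
  rw [ratPt, Groth.L18.PS.tuplePt_toSpec]; exact Spec.map_id _

include hij in
/-- The complement of a rational point is the basic open of a linear form. -/
theorem basicOpen_form_eq :
    (@SetLike.coe (CohB1.ProjSpace 1 K).Opens ↥(CohB1.ProjSpace 1 K) _
      (Proj.basicOpen (CohB1.polyGrading 1 K) (form i j c))) = {ratPt i c (IsLocalRing.closedPoint K)}ᶜ := by
  let f : Spec (CommRingCat.of K) ⟶ CohB1.ProjSpace 1 K := ratPt i c
  have hlh : (form i j c).IsHomogeneous 1 := (mem_homogeneousSubmodule 1 _).1 (form_mem i j c)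
  have hji : j ≠ i := hij.symm
  ext x
  simp only [SetLike.mem_coe, Set.mem_compl_iff, Set.mem_singleton_iff]
  constructor
  · rintro hx rfl
    let p : ↥(Spec (CommRingCat.of K)) := IsLocalRing.closedPoint K
    have hp : p ∈ f ⁻¹ᵁ (Proj.basicOpen (CohB1.polyGrading 1 K) (form i j c) : (CohB1.ProjSpace 1 K).Opens) := hx
    erw [Groth.L18.PS.tuplePt_preimage_basicOpen (B := CommRingCat.of K) (RingHom.id K) (ptv i c) i (isUnit_ptv i c) _ hlh one_pos] at hp
    refine hp ?_
    rw [eval_form]
    simp [ptv, hji]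
  · intro hxQ
    by_contra hx
    refine hxQ ?_
    let F : CommRingCat.{u} := (CohB1.ProjSpace 1 K).residueField x
    let g : Spec F ⟶ CohB1.ProjSpace 1 K := (CohB1.ProjSpace 1 K).fromSpecResidueField x
    have hgx : ∀ a, g a = x := fun a => Scheme.fromSpecResidueField_apply x a
    have hxm : x ∈ (⊤ : (CohB1.ProjSpace 1 K).Opens) := trivial
    obtain ⟨i', hi'⟩ := TopologicalSpace.Opens.mem_iSup.mp ((Groth.L18.PS.iSup_chart (n := 1)).ge hxm)
    obtain ⟨σ, v, hv, hg, hvi'⟩ := Groth.L18.PS.exists_tuplePt (B := F) g i' (fun a => by rw [hgx]; exact hi')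
    letI : Field F := inferInstanceAs (Field ((CohB1.ProjSpace 1 K).residueField x))
    have hev : v j = σ c * v i := by
      rw [← sub_eq_zero, ← eval_form]
      by_contra hne
      refine hx ?_
      rw [← hgx (IsLocalRing.closedPoint F)]
      show IsLocalRing.closedPoint F ∈ g ⁻¹ᵁ (Proj.basicOpen (CohB1.polyGrading 1 K) (form i j c) : (CohB1.ProjSpace 1 K).Opens)
      rw [hg]
      erw [Groth.L18.PS.tuplePt_preimage_basicOpen σ v i' hv _ hlh one_pos]
      rw [Groth.L18.PS.basicOpen_eq_top_of_isUnit (Ne.isUnit hne)]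
      trivial
    have hall : ∀ m, v m = v i * σ (ptv i c m) := fun m => by
      by_cases hm : m = i
      · subst hm; simp [ptv]
      · obtain rfl : m = j := by omega
        simp [ptv, hm, hev, mul_comm]
    have hu1 : IsUnit (σ (ptv i c i)) := (isUnit_ptv i c).map σ
    have hu2 : IsUnit (v i * σ (ptv i c i')) := hall i' ▸ hv
    have key : g = Spec.map (CommRingCat.ofHom σ) ≫ ratPt i c := by
      rw [hg, ratPt, Groth.L18.PS.SpecMap_tuplePt (B := CommRingCat.of K) (C := F),
        Groth.L18.PS.tuplePt_congr σ hall i' i' hv hu2,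
        Groth.L18.PS.tuplePt_smul σ (fun m => σ (ptv i c m)) (v i) i' i hu2 hu1]
      congr 1
    have := hgx (IsLocalRing.closedPoint F)
    rw [key, Scheme.Hom.comp_apply] at this
    rw [← this]
    exact congrArg _ (Subsingleton.elim (α := PrimeSpectrum K) _ _)

variable [IsAlgClosed K]

/-- The complement of a closed point is the basic open of a linear form. -/
theorem compl_eq_basicOpen (Q : ↥(CohB1.ProjSpace 1 K)) (hQ : IsClosed ({Q} : Set ↥(CohB1.ProjSpace 1 K))) :
    ∃ (i j : Fin 2) (c : K), i ≠ j ∧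
      (@SetLike.coe (CohB1.ProjSpace 1 K).Opens ↥(CohB1.ProjSpace 1 K) _
        (Proj.basicOpen (CohB1.polyGrading 1 K) (form i j c))) = {Q}ᶜ := by
  let f : Spec (CommRingCat.of K) ⟶ CohB1.ProjSpace 1 K := pointOfClosedPoint (CohB1.ProjSpace.toSpec 1 K) Q hQ
  have hfQ : ∀ a, f a = Q := pointOfClosedPoint_apply _ _ _
  have hQm : Q ∈ (⊤ : (CohB1.ProjSpace 1 K).Opens) := trivial
  obtain ⟨i, hi⟩ := TopologicalSpace.Opens.mem_iSup.mp ((Groth.L18.PS.iSup_chart (n := 1)).ge hQm)
  obtain ⟨τ, b, hb, hf, hbi⟩ := Groth.L18.PS.exists_tuplePt (B := CommRingCat.of K) f i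
    (fun x => by rw [hfQ]; exact hi)
  have hτ : τ = RingHom.id K := by
    have h1 := congrArg (· ≫ CohB1.ProjSpace.toSpec 1 K) hf
    simp only [f, pointOfClosedPoint_comp, Groth.L18.PS.tuplePt_toSpec] at h1
    rw [← Spec.map_id] at h1
    exact (congrArg CommRingCat.Hom.hom (Spec.map_injective h1)).symm
  obtain ⟨j, hij⟩ : ∃ j, i ≠ j := exists_ne i |>.imp fun _ h => h.symm
  subst hτ
  have hv : ∀ m, b m = ptv i (b j) m := fun m => by
    by_cases hm : m = i
    · subst hm; simp [ptv, hbi]
    · obtain rfl : m = j := by omega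
      simp [ptv, hm]
  have hfr : f = ratPt i (b j) := hf.trans (Groth.L18.PS.tuplePt_congr _ hv i i hb (isUnit_ptv i (b j)))
  refine ⟨i, j, b j, hij, ?_⟩
  rw [basicOpen_form_eq i j hij (b j), ← hfr, hfQ]

end Groth.L06.LineForm
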