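import Groth.Agent.L06.LineForm.Basic
import Groth.Agent.L16.ProjSpace.BaseChange
import Mathlib.AlgebraicGeometry.Morphisms.UniversallyInjective

/-!
The preimage in `ℙ¹_K` of a purely inseparable closed point of `ℙ¹_k` is a single point.
-/

set_option autoImplicit false
set_option linter.style.haveILetI false
set_option maxSynthPendingDepth 3
set_option backward.isDefEq.respectTransparency false
set_option backward.isDefEq.respectTransparency.types false

universe u

open CategoryTheory CategoryTheory.Limits AlgebraicGeometry

noncomputable section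

namespace Groth.L06.LineForm

/-- A purely inseparable residue field gives a universally injective point. -/
theorem universallyInjective_fromSpecResidueField {X Y : Scheme.{u}} (t : X ⟶ Y) (P : X)
    (hpi : (t.residueFieldMap P).hom.IsPurelyInseparable) :
    UniversallyInjective (X.fromSpecResidueField P ≫ t) := by
  rw [← t.SpecMap_residueFieldMap_fromSpecResidueField P]
  haveI : UniversallyInjective (Spec.map (t.residueFieldMap P)) := by
    refine ((tfae_universallyInjective _).out 0 1).2 ?_
    intro L _ g₁ g₂ hg
    obtain ⟨a₁, rfl⟩ := Spec.map_surjective g₁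
    obtain ⟨a₂, rfl⟩ := Spec.map_surjective g₂
    simp only [← Spec.map_comp] at hg
    have h := congrArg CommRingCat.Hom.hom (Spec.map_injective hg)
    simp only [CommRingCat.hom_comp] at h
    congr 1
    refine CommRingCat.hom_ext ?_
    algebraize [(t.residueFieldMap P).hom]
    exact IsPurelyInseparable.injective_comp_algebraMap (Y.residueField (t P)) (X.residueField P) L h
  haveI : UniversallyInjective (Y.fromSpecResidueField (t P)) := inferInstance
  exact MorphismProperty.comp_mem _ _ _ inferInstance inferInstance

/-- The preimage of a purely inseparable point is a single point. -/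
theorem preimage_subsingleton {k K : Type u} [CommRing k] [Field K] (φ : k →+* K) {n : ℕ}
    (P : ↥(CohB1.ProjSpace n k)) (hpi : ((CohB1.ProjSpace.toSpec n k).residueFieldMap P).hom.IsPurelyInseparable) :
    ((Groth.L16.ProjSpace.map n φ).base ⁻¹' {P}).Subsingleton := by
  intro Q₁ h₁ Q₂ h₂
  haveI := universallyInjective_fromSpecResidueField (CohB1.ProjSpace.toSpec n k) P hpi
  have hcart := (IsPullback.of_hasPullback ((CohB1.ProjSpace n k).fromSpecResidueField P)
    (Groth.L16.ProjSpace.map n φ)).paste_vert (Groth.L16.ProjSpace.isPullback_map n φ)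
  haveI : UniversallyInjective (pullback.snd ((CohB1.ProjSpace n k).fromSpecResidueField P)
      (Groth.L16.ProjSpace.map n φ) ≫ CohB1.ProjSpace.toSpec n K) :=
    MorphismProperty.of_isPullback hcart inferInstance
  have hex : ∀ Q, Groth.L16.ProjSpace.map n φ Q = P → ∃ z,
      pullback.snd ((CohB1.ProjSpace n k).fromSpecResidueField P) (Groth.L16.ProjSpace.map n φ) z = Q := fun Q hQ => by
    obtain ⟨z, -, hz⟩ := Scheme.Pullback.exists_preimage_pullback
      (f := (CohB1.ProjSpace n k).fromSpecResidueField P) (g := Groth.L16.ProjSpace.map n φ)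
      (IsLocalRing.closedPoint _) Q (by rw [Scheme.fromSpecResidueField_apply, hQ])
    exact ⟨z, hz⟩
  obtain ⟨z₁, rfl⟩ := hex Q₁ h₁
  obtain ⟨z₂, rfl⟩ := hex Q₂ h₂
  rw [(pullback.snd ((CohB1.ProjSpace n k).fromSpecResidueField P) (Groth.L16.ProjSpace.map n φ) ≫
    CohB1.ProjSpace.toSpec n K).injective (a₁ := z₁) (a₂ := z₂) (Subsingleton.elim (α := PrimeSpectrum K) _ _)]

end Groth.L06.LineForm
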