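import Groth.Agent.L06.LineForm.Aut
import Groth.Agent.L06.LineForm.Fibre
import Mathlib.FieldTheory.IsAlgClosed.Basic
import Mathlib.FieldTheory.Minpoly.Field

/-!
The second order neighbourhood of the geometric point over a purely inseparable point of degree at
least three of the projective line factors through that point.
-/

set_option autoImplicit false
set_option linter.style.haveILetI false
set_option maxSynthPendingDepth 3
set_option backward.isDefEq.respectTransparency false
set_option backward.isDefEq.respectTransparency.types false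

universe u

open CategoryTheory CategoryTheory.Limits AlgebraicGeometry

noncomputable section

namespace Groth.L06.LineForm

open Groth.L18.PS (tuplePt chartHom coord chartScalar)

/-- Base change of a point given by coordinates. -/
theorem tuplePt_map {k K : Type u} [CommRing k] [CommRing K] (φ : k →+* K) {n : ℕ} {B : CommRingCat.{u}}
    (σ : K →+* B) (v : Fin (n + 1) → B) (i : Fin (n + 1)) (h : IsUnit (v i)) :
    tuplePt σ v i h ≫ Groth.L16.ProjSpace.map n φ = tuplePt (σ.comp φ) v i h := by
  unfold Groth.L18.PS.tuplePt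
  rw [Category.assoc]
  have h1 := Groth.L16.ProjSpace.chartAway_map n φ i
  change Groth.L18.PS.chart n K i ≫ _ = _ ≫ Groth.L18.PS.chart n k i at h1
  rw [h1, ← Category.assoc, ← Spec.map_comp, ← CommRingCat.ofHom_comp]
  congr 3
  refine RingHom.ext fun z => ?_
  obtain ⟨e, p, hp, rfl⟩ := HomogeneousLocalization.Away.mk_surjective _ (Groth.L18.PS.X_mem n i) z
  refine ((h.pow e).mul_left_inj).1 ?_
  have e2 := Groth.L18.PS.awayEval_mk (σ.comp φ) v (MvPolynomial.X i) (Groth.L18.PS.isUnit_eval_X _ _ h)
    (Groth.L18.PS.X_mem n i) e p hp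
  have e1 := Groth.L18.PS.awayEval_mk σ v (MvPolynomial.X i) (Groth.L18.PS.isUnit_eval_X _ _ h)
    (Groth.L18.PS.X_mem n i) e (Groth.L16.ProjSpace.mapGraded n φ p) ((Groth.L16.ProjSpace.mapGraded n φ).2 hp)
  rw [MvPolynomial.eval₂Hom_X'] at e1 e2
  show chartHom σ v i h (Groth.L16.ProjSpace.mapAway n φ i _) * _ = chartHom (σ.comp φ) v i h _ * _
  erw [Groth.L16.ProjSpace.mapAway_mk, e1, e2]
  show MvPolynomial.eval₂Hom σ v (MvPolynomial.map φ p) = _
  exact MvPolynomial.eval₂_map _ _ _ _

/-- The residue field of the spectrum of a field. -/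
theorem exists_bijective_fromSpecResidueField (k : Type u) [Field k] (x : ↥(Spec (CommRingCat.of k))) :
    ∃ ι0 : CommRingCat.of k ⟶ (Spec (CommRingCat.of k)).residueField x,
      Spec.map ι0 = (Spec (CommRingCat.of k)).fromSpecResidueField x ∧ Function.Bijective ι0.hom := by
  haveI hmax : x.asIdeal.IsMaximal := by
    rcases Ideal.eq_bot_or_top x.asIdeal with h | h
    · rw [h]; exact Ideal.bot_isMaximal
    · exact absurd h x.isPrime.ne_top
  refine ⟨CommRingCat.ofHom (algebraMap (CommRingCat.of k) x.asIdeal.ResidueField) ≫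
    (Scheme.Spec.residueFieldIso (CommRingCat.of k) x).inv, ?_, ?_⟩
  · rw [Spec.map_comp]
    exact Scheme.Spec.map_residueFieldIso_inv_eq_fromSpecResidueField _ x
  · have h1 : Function.Bijective (algebraMap k x.asIdeal.ResidueField) :=
      ⟨RingHom.injective _, Ideal.algebraMap_residueField_surjective _⟩
    exact (ConcreteCategory.bijective_of_isIso (Scheme.Spec.residueFieldIso (CommRingCat.of k) x).inv).comp h1

theorem mem_of_mul_eq {k L : Type u} [Field k] [Field L] [Algebra k L] [Module.Finite k L] (A : Subalgebra k L)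
    {a r d x : L} (ha : a ∈ A) (hr' : r ∈ A) (hd : d ≠ 0) (hr : r ≠ 0) (e : d * r * x = d * a) : x ∈ A := by
  have hx : x = a * r⁻¹ := by
    rw [← mul_left_cancel₀ hd ((mul_assoc d r x).symm.trans e), mul_comm r, mul_assoc, mul_inv_cancel₀ hr, mul_one]
  rw [hx]
  exact mul_mem ha (Subalgebra.inv_mem_of_algebraic A (x := ⟨r, hr'⟩) (Algebra.IsAlgebraic.isAlgebraic _))

open Polynomial in
/-- The second order neighbourhood factors through the point. -/
theorem exists_thick_factor {k : Type u} [Field k] (P : ↥(CohB1.ProjSpace 1 k))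
    (hpi : letI := ((CohB1.ProjSpace.toSpec 1 k).residueFieldMap P).hom.toAlgebra
      IsPurelyInseparable ↑((Spec (CommRingCat.of k)).residueField ((CohB1.ProjSpace.toSpec 1 k) P)) ↑((CohB1.ProjSpace 1 k).residueField P))
    (hdeg : letI := ((CohB1.ProjSpace.toSpec 1 k).residueFieldMap P).hom.toAlgebra
      3 ≤ Module.finrank ↑((Spec (CommRingCat.of k)).residueField ((CohB1.ProjSpace.toSpec 1 k) P)) ↑((CohB1.ProjSpace 1 k).residueField P))
    (K : Type u) [Field K] [Algebra k K] [IsAlgClosure k K] :
    ∃ (i j : Fin 2) (c : K) (w : Spec (CommRingCat.of (trunc K)) ⟶ Spec ((CohB1.ProjSpace 1 k).residueField P)),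
      i ≠ j ∧ thickPt i c ≫ Groth.L16.ProjSpace.map 1 (algebraMap k K) =
        w ≫ (CohB1.ProjSpace 1 k).fromSpecResidueField P := by
  haveI : IsAlgClosed K := IsAlgClosure.isAlgClosed k
  let t := CohB1.ProjSpace.toSpec 1 k
  let g := (CohB1.ProjSpace 1 k).fromSpecResidueField P
  let κ := (CohB1.ProjSpace 1 k).residueField P
  have hP : P ∈ (⊤ : (CohB1.ProjSpace 1 k).Opens) := trivial
  obtain ⟨i, hi⟩ := TopologicalSpace.Opens.mem_iSup.mp ((Groth.L18.PS.iSup_chart (n := 1)).ge hP)
  obtain ⟨j, hij⟩ : ∃ j, i ≠ j := exists_ne i |>.imp fun _ h => h.symm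
  obtain ⟨σ, v, hv, hg, hvi⟩ := Groth.L18.PS.exists_tuplePt (B := κ) g i
    (fun x => by rw [Scheme.fromSpecResidueField_apply]; exact hi)
  let gP := chartHom σ v i hv
  letI : Algebra k κ := σ.toAlgebra
  have hgv : ∀ m, gP (coord i m) = v m := fun m => by
    have := Groth.L18.PS.chartHom_coord σ v i hv m
    rwa [hvi, mul_one] at this
  have hgs : ∀ x, gP (chartScalar 1 k i x) = σ x := RingHom.congr_fun (Groth.L18.PS.chartHom_comp_scalar σ v i hv)
  -- the residue field of the structure
  let x0 := t P
  obtain ⟨ι0, hι0, hbij⟩ := exists_bijective_fromSpecResidueField k x0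
  have hσ : σ = (t.residueFieldMap P).hom.comp ι0.hom := by
    have h1 : Spec.map (CommRingCat.ofHom σ) = Spec.map (ι0 ≫ t.residueFieldMap P) := by
      rw [← Groth.L18.PS.tuplePt_toSpec σ v i hv, ← hg, Spec.map_comp, hι0]
      exact (t.SpecMap_residueFieldMap_fromSpecResidueField P).symm
    exact congrArg CommRingCat.Hom.hom (Spec.map_injective h1)
  -- finiteness and degree
  letI alg0 : Algebra ((Spec (CommRingCat.of k)).residueField x0) κ := (t.residueFieldMap P).hom.toAlgebra
  have hrank : 3 ≤ Module.finrank k κ := by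
    refine hdeg.trans (le_of_eq ?_)
    refine (Algebra.finrank_eq_of_equiv_equiv (RingEquiv.ofBijective ι0.hom hbij) (RingEquiv.refl _) ?_).symm
    refine RingHom.ext fun x => ?_
    exact (RingHom.congr_fun hσ x).symm
  haveI : Module.Finite k κ := Module.finite_of_finrank_pos (by omega)
  let s : κ := v j
  -- generation
  have hadj : ∀ z, gP z ∈ Algebra.adjoin k {s} := fun z => by
    obtain ⟨p, rfl⟩ := Groth.L18.PS.exists_eq_eval_coord i z
    induction p using MvPolynomial.induction_on with
    | C r =>
      rw [MvPolynomial.eval₂Hom_C]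
      exact (hgs r).symm ▸ Subalgebra.algebraMap_mem _ r
    | add p q hp hq => rw [map_add, map_add]; exact add_mem hp hq
    | mul_X p m hp =>
      rw [map_mul, map_mul, MvPolynomial.eval₂Hom_X', hgv]
      refine mul_mem hp ?_
      by_cases hm : m = i
      · subst hm; rw [hvi]; exact one_mem _
      · obtain rfl : m = j := by omega
        exact Algebra.self_mem_adjoin_singleton k s
  have hgen : Algebra.adjoin k {s} = ⊤ := by
    refine top_unique fun x _ => ?_
    haveI : IsPreimmersion (Spec.map (CommRingCat.ofHom gP) ≫ Groth.L18.PS.chart 1 k i) := by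
      show IsPreimmersion (tuplePt σ v i hv)
      rw [← hg]; infer_instance
    haveI hpre : IsPreimmersion (Spec.map (CommRingCat.ofHom gP)) := IsPreimmersion.of_comp _ (Groth.L18.PS.chart 1 k i)
    have hs : gP.SurjectiveOnStalks := ((IsPreimmersion.SpecMap_iff _).1 hpre).2
    obtain ⟨a, r, d, hd, hr, e⟩ := (RingHom.surjectiveOnStalks_iff_forall_ideal.1 hs) ⊥ bot_ne_top x
    rw [Ideal.mem_bot] at hd hr
    exact mem_of_mul_eq _ (hadj a) (hadj r) hd hr e
  -- a single root
  have hsint : IsIntegral k s := IsIntegral.of_finite k s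
  let ρ : κ →ₐ[k] K := IsAlgClosed.lift
  let c : K := ρ s
  haveI hui := universallyInjective_fromSpecResidueField t P hpi
  have huniq : ∀ ρ' : κ →ₐ[k] K, ρ' = ρ := fun ρ' => by
    have hS : g ≫ t = Spec.map (CommRingCat.ofHom σ) := by rw [hg, Groth.L18.PS.tuplePt_toSpec]
    have h01 : UniversallyInjective (g ≫ t) ↔ ∀ (L : Type u) [Field L], Function.Injective fun q : Spec (CommRingCat.of L) ⟶ _ => q ≫ g ≫ t :=
      (tfae_universallyInjective (g ≫ t)).out 0 1
    have := h01.1 hui K
    have h2 := this (a₁ := Spec.map (CommRingCat.ofHom ρ'.toRingHom)) (a₂ := Spec.map (CommRingCat.ofHom ρ.toRingHom))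
      (by
        simp only [hS, ← Spec.map_comp, ← CommRingCat.ofHom_comp]
        congr 2
        exact ρ'.comp_algebraMap.trans ρ.comp_algebraMap.symm)
    exact AlgHom.coe_ringHom_injective (congrArg CommRingCat.Hom.hom (Spec.map_injective h2))
  let f := minpoly k s
  have hroots : ∀ r ∈ (f.map (algebraMap k K)).roots, r = c := fun r hr => by
    have hr' : r ∈ f.rootSet K := by
      rw [Polynomial.mem_rootSet]
      exact ⟨minpoly.ne_zero hsint, by
        rw [Polynomial.aeval_def, Polynomial.eval₂_eq_eval_map]; exact (Polynomial.mem_roots'.1 hr).2⟩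
    rw [← Algebra.IsAlgebraic.range_eval_eq_rootSet_minpoly K s] at hr'
    obtain ⟨ρ', rfl⟩ := hr'
    rw [huniq ρ']
  have hmon : (f.map (algebraMap k K)).Monic := (minpoly.monic hsint).map _
  have hprod : f.map (algebraMap k K) = (X - C c) ^ (f.map (algebraMap k K)).natDegree := by
    have hspl : (f.map (algebraMap k K)).Splits := IsAlgClosed.splits _
    have h1 := hspl.eq_prod_roots_of_monic hmon
    rw [Multiset.eq_replicate_card.2 hroots, Multiset.map_replicate, Multiset.prod_replicate] at h1
    rwa [← hspl.natDegree_eq_card_roots] at h1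
  have hfd : 3 ≤ f.natDegree := by
    refine hrank.trans (le_of_eq ?_)
    rw [← IntermediateField.adjoin.finrank hsint]
    have htop : IntermediateField.adjoin k {s} = ⊤ := top_unique fun x _ => by
      have h := IntermediateField.algebra_adjoin_le_adjoin k {s}
      exact h (hgen.ge (trivial : x ∈ (⊤ : Subalgebra k κ)))
    rw [htop]
    exact IntermediateField.finrank_top'.symm
  -- the map
  let A := trunc K
  let u : A := Ideal.Quotient.mk _ X
  let cA : A := algebraMap K A c + u
  letI : Algebra k A := ((algebraMap K A).comp (algebraMap k K)).toAlgebra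
  have hcA : aeval cA f = 0 := by
    rw [aeval_def, RingHom.algebraMap_toAlgebra, ← eval₂_map, hprod, eval₂_pow, eval₂_sub, eval₂_X, eval₂_C,
      show cA - algebraMap K A c = u by simp [cA]]
    rw [Polynomial.natDegree_map, ← map_pow, Ideal.Quotient.eq_zero_iff_mem, Ideal.mem_span_singleton]
    exact pow_dvd_pow X hfd
  have hsurj : Function.Surjective (aeval (R := k) s) := fun x => by
    have hx : x ∈ (aeval (R := k) s).range := by
      rw [← Algebra.adjoin_singleton_eq_range_aeval, hgen]; trivial
    exact hx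
  have hker : RingHom.ker (aeval (R := k) s).toRingHom ≤ RingHom.ker (aeval (R := k) cA).toRingHom := fun p hp => by
    obtain ⟨q, hq⟩ := minpoly.dvd k s hp
    rw [RingHom.mem_ker]
    show aeval cA p = 0
    rw [hq, map_mul, hcA, zero_mul]
  let ω : κ →+* A := RingHom.liftOfSurjective (aeval (R := k) s).toRingHom hsurj ⟨(aeval (R := k) cA).toRingHom, hker⟩
  have hω : ∀ p, ω (aeval s p) = aeval cA p := fun p => RingHom.liftOfRightInverse_comp_apply _ _ _ _ p
  refine ⟨i, j, c, Spec.map (CommRingCat.ofHom ω), hij, ?_⟩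
  rw [show (CohB1.ProjSpace 1 k).fromSpecResidueField P = tuplePt σ v i hv from hg,
    Groth.L18.PS.SpecMap_tuplePt, thickPt, tuplePt_map]
  have hωσ : ω.comp σ = (algebraMap K A).comp (algebraMap k K) := RingHom.ext fun r => by
    have h := hω (C r)
    simp only [aeval_C] at h
    exact h
  simp only [CommRingCat.hom_ofHom, hωσ]
  refine Groth.L18.PS.tuplePt_congr (B := CommRingCat.of A) _ (fun m => ?_) _ _ _ _
  by_cases hm : m = i
  · subst hm; simp [ptv, hvi]
  · obtain rfl : m = j := by omega
    have h := hω X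
    simp only [aeval_X] at h
    simp [ptv, hm, cA, u, s] at h ⊢
    exact h.symm

end Groth.L06.LineForm
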